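import Cfsg.Agent.H964.Rg.Slo
import Cfsg.Agent.H119.Rg.Opp
import Cfsg.Agent.H729.Rg.MinusN

/-!
# S3691-I: `minus_odd_no` (helper96)

* `exists_comm` : a group normalising a field of matrices of degree `s`, `r ^ b ∣ |H|`, `¬ r ^ b ∣ s`: an element of order `r`
  which centralises the field
* `dvd_of_preG` : odd primes dividing `|preG X|` divide `|X ∩ T|`
* `minus_odd_no`
-/

set_option autoImplicit false
set_option linter.unusedSectionVars false
set_option linter.unusedVariables false

namespace Cfsg.Agent.H96.Rg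

open Module QuadraticMap Cfsg Cfsg.Geo Cfsg.Agent.LieClassical.OrthCore Cfsg.Agent.LieClassical.OrthTrans
  Cfsg.Agent.H454.Reg Cfsg.Agent.H884.El Cfsg.Agent.H955 Cfsg.Agent.H954.TSing Cfsg.Agent.H193.Dg Cfsg.Agent.H851.Dg
  Cfsg.Agent.H449.Reg Cfsg.Agent.H964.Rg
open Cfsg.Agent.H951 (fx cm Inv)
open Cfsg.Agent.H278.Cov (Red Ext Num)
open scoped MatrixGroups Matrix

universe u v

section field

theorem card_aut_eq {F : Type u} {E : Type v} [Field F] [Finite F] [Ring E] [Algebra F E] [Module.Finite F E]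
    (hE : IsField E) : Nat.card (E ≃ₐ[F] E) = finrank F E := by
  let _ : Field E := hE.toField
  have hfin : Finite E := Module.finite_of_finite F
  exact IsGalois.card_aut_eq_finrank F E

variable {ι : Type} [Fintype ι] [DecidableEq ι] {F : Type u} [Field F] [Finite F]

/-- the action on the field -/
noncomputable def actE [Nonempty ι] {s : ℕ} {K : Subalgebra F (Matrix ι ι F)} (hK : IsFieldSubalgebra s K)
    {H : Subgroup (GL ι F)} (hH : H ≤ subalgebraNormalizer K) : H →* (K ≃ₐ[F] K) where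
  toFun h := AlgEquiv.ofBijective (H906.Cov.conjE (hH h.2)) (by
    have hfin : Finite K := Module.finite_of_finite F
    refine Finite.injective_iff_bijective.1 fun a b hab => ?_
    have h1 := congrArg (fun z : K => (z : Matrix ι ι F)) hab
    simp only [H906.Cov.conjE_coe] at h1
    apply Subtype.ext
    have h2 := congrArg (fun z => (((h : GL ι F)⁻¹ : GL ι F) : Matrix ι ι F) * z * ((h : GL ι F) : Matrix ι ι F)) h1
    simp only [mul_assoc] at h2
    simp only [← Units.val_mul, inv_mul_cancel, Units.val_one, mul_one] at h2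
    simp only [← mul_assoc] at h2
    simp only [← Units.val_mul, inv_mul_cancel, Units.val_one, one_mul] at h2
    exact h2)
  map_one' := by
    apply AlgEquiv.ext
    intro x
    apply Subtype.ext
    change ((1 : GL ι F) : Matrix ι ι F) * x * (((1 : GL ι F)⁻¹ : GL ι F) : Matrix ι ι F) = x
    rw [inv_one, Units.val_one, one_mul, mul_one]
  map_mul' a b := by
    apply AlgEquiv.ext
    intro x
    apply Subtype.ext
    change (((a : GL ι F) * (b : GL ι F) : GL ι F) : Matrix ι ι F) * x *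
      ((((a : GL ι F) * (b : GL ι F))⁻¹ : GL ι F) : Matrix ι ι F) =
      ((a : GL ι F) : Matrix ι ι F) * (((b : GL ι F) : Matrix ι ι F) * x * (((b : GL ι F)⁻¹ : GL ι F) : Matrix ι ι F)) *
        (((a : GL ι F)⁻¹ : GL ι F) : Matrix ι ι F)
    rw [mul_inv_rev, Units.val_mul, Units.val_mul]
    simp only [mul_assoc]

theorem actE_coe [Nonempty ι] {s : ℕ} {K : Subalgebra F (Matrix ι ι F)} (hK : IsFieldSubalgebra s K)
    {H : Subgroup (GL ι F)} (hH : H ≤ subalgebraNormalizer K) (h : H) (x : K) :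
    ((actE hK hH h x : K) : Matrix ι ι F) = ((h : GL ι F) : Matrix ι ι F) * x * (((h : GL ι F)⁻¹ : GL ι F) : Matrix ι ι F) := rfl

/-- **an element which centralises the field** -/
theorem exists_comm [Nonempty ι] {s : ℕ} {K : Subalgebra F (Matrix ι ι F)} (hK : IsFieldSubalgebra s K)
    {H : Subgroup (GL ι F)} (hH : H ≤ subalgebraNormalizer K) {r b : ℕ} (hr : r.Prime) (hd : r ^ b ∣ Nat.card H)
    (hn : ¬ r ^ b ∣ s) : ∃ g ∈ H, g ^ r = 1 ∧ g ≠ 1 ∧ ∀ x ∈ K, (g : Matrix ι ι F) * x = x * (g : Matrix ι ι F) := by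
  have := Fact.mk hr
  have hfin : Finite (GL ι F) := inferInstance
  set φ := actE hK hH with hφ
  have hcard : Nat.card (K ≃ₐ[F] K) = s := by
    rw [card_aut_eq (H906.Cov.isField_of hK), hK.finrank_eq]
  have h1 : Nat.card H = Nat.card φ.range * Nat.card φ.ker := by
    rw [Subgroup.card_eq_card_quotient_mul_card_subgroup φ.ker]
    congr 1
    exact Nat.card_congr (QuotientGroup.quotientKerEquivRange φ).toEquiv
  have h2 : Nat.card φ.range ∣ s := by
    rw [← hcard]
    have hfa : Finite (K ≃ₐ[F] K) := by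
      apply Nat.finite_of_card_ne_zero
      rw [hcard]
      rintro rfl
      exact hn (dvd_zero _)
    exact Subgroup.card_subgroup_dvd_card _
  have h3 : r ∣ Nat.card φ.ker := by
    by_contra h4
    apply hn
    refine dvd_trans ?_ h2
    rw [h1] at hd
    exact (Nat.Coprime.pow_left b ((Nat.Prime.coprime_iff_not_dvd hr).2 h4)).dvd_of_dvd_mul_right hd
  obtain ⟨g, hg⟩ := exists_prime_orderOf_dvd_card' r h3
  refine ⟨((g : H) : GL ι F), (g : H).2, ?_, ?_, ?_⟩
  · have h4 : g ^ r = 1 := by rw [← hg, pow_orderOf_eq_one]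
    have h5 := congrArg (fun z : φ.ker => ((z : H) : GL ι F)) h4
    exact h5
  · intro h4
    have h5 : g = 1 := Subtype.ext (Subtype.ext h4)
    rw [h5, orderOf_one] at hg
    exact hr.one_lt.ne hg
  · intro x hx
    have h4 : φ (g : H) = 1 := g.2
    have h5 := congrArg (fun z : K ≃ₐ[F] K => ((z ⟨x, hx⟩ : K) : Matrix ι ι F)) h4
    have h6 : (((g : H) : GL ι F) : Matrix ι ι F) * x * (((((g : H) : GL ι F))⁻¹ : GL ι F) : Matrix ι ι F) = x := h5
    have h7 := congrArg (fun z => z * (((g : H) : GL ι F) : Matrix ι ι F)) h6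
    simp only [mul_assoc] at h7
    simp only [← Units.val_mul, inv_mul_cancel, Units.val_one, mul_one] at h7
    exact h7

/-- the fixed space of an element centralising the field -/
theorem dvd_fx_comm [Nonempty ι] {s : ℕ} {K : Subalgebra F (Matrix ι ι F)} (hK : IsFieldSubalgebra s K) {g : GL ι F}
    (hc : ∀ x ∈ K, (g : Matrix ι ι F) * x = x * (g : Matrix ι ι F)) :
    s ∣ finrank F (fx (Matrix.toLin' (g : Matrix ι ι F))) := by
  apply H906.Cov.dvd_finrank_of_invariant hK
  intro x hx v hv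
  have hv' : (g : Matrix ι ι F) *ᵥ v = v := by
    have : Matrix.toLin' (g : Matrix ι ι F) v = v := H951.mem_fx.1 hv
    rwa [Matrix.toLin'_apply] at this
  rw [H951.mem_fx, Matrix.toLin'_apply, Matrix.mulVec_mulVec, hc x hx, ← Matrix.mulVec_mulVec, hv']

end field

section cx

variable {ι : Type} [Fintype ι] [DecidableEq ι] {F : Type v} [Field F] [Fintype F] {Q : QuadraticForm F (ι → F)}
variable {G : Type u} [Group G] [Finite G] {T : Subgroup G} [T.Normal] {hG : Good Q} {eT : T ≃* POmega F (⇑Q)}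
  {hI : Ind (eP hG eT)} {X Y : Subgroup G} {p f m N : ℕ}

/-- odd primes dividing `|preG X|` divide `|X ∩ T|` -/
theorem dvd_of_preG (hD : H390.Lift.Data Q) {r : ℕ} (hr : r.Prime) (hr2 : r ≠ 2) (h : r ∣ Nat.card (preG eT X)) :
    r ∣ Nat.card (X.subgroupOf T) := by
  have := Fact.mk hr
  have hfin : Finite (GL ι F) := inferInstance
  obtain ⟨g, hg⟩ := exists_prime_orderOf_dvd_card' r h
  obtain ⟨x, hx, hxX⟩ := exists_of_mem_preG g.2
  have hgr : (g : GL ι F) ^ r = 1 := by
    rw [← Subgroup.coe_pow, ← hg, pow_orderOf_eq_one]; rfl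
  have hg1 : (g : GL ι F) ≠ 1 := by
    intro h1
    have h2 : g = 1 := Subtype.ext h1
    rw [h2, orderOf_one] at hg
    exact hr.one_lt.ne hg
  have hxr : x ^ r = 1 := by
    apply Subtype.ext
    apply Subtype.ext
    change ((x : isometryGroup F (⇑Q)) : GL ι F) ^ r = 1
    rw [hx, hgr]
  have hx1 : x ≠ 1 := by
    rintro rfl
    exact hg1 hx.symm
  have h3 := orderOf_mk hD hr hr2 hxr hx1
  let t : X.subgroupOf T := ⟨eT.symm (QuotientGroup.mk x), by rw [Subgroup.mem_subgroupOf]; exact hxX⟩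
  have h4 : orderOf t = r := by
    rw [← Subgroup.orderOf_coe]
    change orderOf (eT.symm (QuotientGroup.mk x)) = r
    rw [← h3]
    exact orderOf_injective eT.symm.toMonoidHom eT.symm.injective _
  rw [← h4]
  exact orderOf_dvd_natCard _

/-- (I) MINUS, `m` odd: the last case; `hkx` is supplied by (J1) -/
theorem minus_odd_no (h : Cx hI X Y p f m (2 * m)) (hm : 5 ≤ m) (hmo : Odd m) (hP : ¬ IsPlus Q)
    (hkx : Ex2 (preG eT X) →
      (m.Prime → ∃ N, N ∣ Nat.card (preG eT X) ∧ N.Coprime ((p ^ f) ^ (2 * m) - 1) ∧ ¬ N ∣ 2 * m) →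
      (∃ t, PP (Nat.card F) (m - 1) t ∧ t ∣ Nat.card (preG eT X)) →
      (∀ t, PP (Nat.card F) (2 * m - 4) t → t ∣ Nat.card (preG eT X)) ∨
      (∀ t, PP (Nat.card F) (2 * m - 2) t → t ∣ Nat.card (preG eT X)))
    (hq5 : m = 5 → 5 ≤ p ^ f) (hq7 : m = 7 → 3 ≤ p ^ f)
    {r0 r2 r4 t1 : ℕ} (hr0 : PP (Nat.card F) (2 * m) r0) (hX0 : r0 ∣ Nat.card (X.subgroupOf T))
    (hr2 : PP (Nat.card F) (2 * m - 2) r2) (hY2 : r2 ∣ Nat.card (Y.subgroupOf T))
    (hr4 : PP p (f * (2 * m - 4)) r4) (hY4 : r4 ∣ Nat.card (preG eT Y)) (ht1 : PP p (f * (m - 1)) t1)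
    {S : Submodule F (ι → F)} {x : ι → F} (hx : Q x = 0) (hx0 : x ≠ 0) (hxS : x ∈ S) (hS2 : finrank F S ≤ 2)
    (hYS : preG eT Y ≤ subspaceStabilizer S)
    (hLX : ∃ (s : ℕ) (K : Subalgebra F (Matrix ι ι F)), s.Prime ∧ s ∣ 2 * m ∧ IsFieldSubalgebra s K ∧
        preG eT X ≤ subalgebraNormalizer K) : False := by
  have hne : Nonempty ι := by
    rw [← Fintype.card_pos_iff, h.dim]
    omega
  have ht1X : t1 ∣ Nat.card (X.subgroupOf T) :=
    H119.Rg.minus_opp h hm hP hx hx0 hxS hS2 hYS (e := m - 1) (by omega) dvd_rfl (h.pp ht1) (h.out _ _ (by omega) ht1)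
  have ht1P : t1 ∣ Nat.card (preG eT X) := ht1X.trans card_dvd_preG
  have hV : finrank F (ι → F) = 2 * m := h.finrank_V
  obtain ⟨s, K, hs, hsm, hK, hKle⟩ := hLX
  by_cases hs2 : s = 2
  · subst hs2
    rcases hkx ⟨K, hK, hKle⟩ (fun hmp => H729.Rg.minus_N h hm hmp hq5 hq7 hP hx hx0 hxS hS2 hYS) ⟨t1, h.pp ht1, ht1P⟩
      with h1 | h1
    · have h2 := h1 r4 (h.pp hr4)
      have h3 : r4 ≠ 2 := by
        have := (h.pp hr4).lt (by omega)
        omega
      exact h.not_both (h.pp hr4) (by omega) (by omega) (dvd_of_preG h.data hr4.prime h3 h2)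
        (dvd_of_preG h.data hr4.prime h3 hY4)
    · have h2 := h1 r2 hr2
      have h3 : r2 ≠ 2 := by
        have := hr2.lt (by omega)
        omega
      exact h.not_both hr2 (by omega) (by omega) (dvd_of_preG h.data hr2.prime h3 h2) hY2
  · have hsodd : Odd s := hs.odd_of_ne_two hs2
    have hsm' : s ∣ m := (Nat.Coprime.dvd_of_dvd_mul_left
      ((Nat.coprime_primes hs Nat.prime_two).2 hs2) hsm)
    have hs3 : 3 ≤ s := by
      have := hs.two_le
      omega
    by_cases hmp : m.Prime
    · have hse : s = m := (Nat.prime_dvd_prime_iff_eq hs hmp).1 hsm'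
      obtain ⟨e, r, b, he, hem, hr, hb, hb1, hnd⟩ := H729.Rg.exists_num hm hmp hq5 hq7 h.prime h.pos
      have hrF : PP (Nat.card F) e r := h.pp hr
      have h1 : r ^ b ∣ Nat.card (preG eT X) := by
        refine (H729.Rg.minus_pow h hm hP hx hx0 hxS hS2 hYS he hrF (h.out e r he hr) ?_).trans card_dvd_preG
        rw [h.card]
        exact hb
      obtain ⟨g, hg, hgr, hg1, hgc⟩ := exists_comm hK hKle hr.prime h1 (fun h2 => hnd (by
        rw [hse] at h2
        exact h2.mul_left 2))
      have hx' : lin g ^ r = 1 := by rw [← H251.GeoCard.toLin_pow, hgr]; exact lin_one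
      have hiso : Iso Q (lin g) r := Iso.mk' hrF (by omega) hx' (lin_iso preG_le hg)
      have hadd := hiso.finrank_add
      rw [hV] at hadd
      have hcm := hiso.dvd_cm hrF
      have hfx : s ∣ finrank F (fx (lin g)) := dvd_fx_comm hK hgc
      have hcm0 : finrank F (cm (lin g)) ≠ 0 := fun h0 =>
        cm_ne_bot (lin_ne_one hg1) (Submodule.finrank_eq_zero.1 h0)
      have hscm : s ∣ finrank F (cm (lin g)) := by
        have h2 : s ∣ finrank F (fx (lin g)) + finrank F (cm (lin g)) := by rw [hadd]; exact hsm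
        exact (Nat.dvd_add_right hfx).1 h2
      rw [hse] at hscm
      obtain ⟨k, hk⟩ := hscm
      have hk2 : k ≤ 2 := by
        by_contra h2
        have h3 : m * 3 ≤ m * k := Nat.mul_le_mul_left _ (by omega)
        omega
      have hkd : m * k ∣ 2 * m := by
        interval_cases k
        · omega
        · rw [mul_one]; exact Dvd.intro_left 2 rfl
        · rw [mul_comm]
      have h4 : e ∣ 2 * m := by
        rw [hk] at hcm
        exact hcm.trans hkd
      have h5 : e ∣ 2 * (m - 1) := hem.mul_left 2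
      have h6 : e ∣ 2 * m - 2 * (m - 1) := Nat.dvd_sub h4 h5
      rw [show 2 * m - 2 * (m - 1) = 2 by omega] at h6
      have := Nat.le_of_dvd (by norm_num) h6
      omega
    · have hslt : s < m := lt_of_le_of_ne (Nat.le_of_dvd (by omega) hsm') (fun h1 => hmp (h1 ▸ hs))
      have ht1F := h.pp ht1
      have htm : m - 1 < t1 := ht1F.lt (by omega)
      obtain ⟨g, hg, hiso, hgr, hg1⟩ := exists_elt (Q := Q) (preG_le (eT := eT) (X := X)) ht1F (by omega) ht1P
      have hadd := hiso.finrank_add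
      rw [hV] at hadd
      have hcm := hiso.dvd_cm ht1F
      have hcop : Nat.Coprime (orderOf g) s :=
        Nat.Coprime.coprime_dvd_left (orderOf_dvd_of_pow_eq_one hgr) ((Nat.coprime_primes ht1F.prime hs).2 (by omega))
      have hfx : s ∣ finrank F (fx (lin g)) :=
        dvd_fx_comm hK fun y hy => H906.Cov.commute_of_coprime hK (hKle hg) hcop y hy
      have hcm0 : finrank F (cm (lin g)) ≠ 0 := fun h0 =>
        cm_ne_bot (lin_ne_one hg1) (Submodule.finrank_eq_zero.1 h0)
      obtain ⟨k, hk⟩ := hcm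
      have hk2 : k ≤ 2 := by
        by_contra h2
        have h3 : (m - 1) * 3 ≤ (m - 1) * k := Nat.mul_le_mul_left _ (by omega)
        omega
      interval_cases k
      · omega
      · have h4 : finrank F (fx (lin g)) = m + 1 := by omega
        rw [h4] at hfx
        have h5 := (Nat.dvd_add_right hsm').1 hfx
        have := Nat.le_of_dvd (by norm_num) h5
        omega
      · have h4 : finrank F (fx (lin g)) = 2 := by omega
        rw [h4] at hfx
        have := Nat.le_of_dvd (by norm_num) hfx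
        omega

end cx

end Cfsg.Agent.H96.Rg
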