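import Cfsg.Agent.H96.Rg.SixCore
import Cfsg.Agent.S5806

/-!
# S3691-M3: subgroups of `Sp_6(q)`, `q` even: `six_even` (helper96)
-/

set_option autoImplicit false

namespace Cfsg.Agent.H96.Rg

open Module QuadraticMap Cfsg Cfsg.Geo Cfsg.Agent.LieClassical.OrthCore Cfsg.Agent.H884.El
open scoped MatrixGroups Matrix

universe u v

/-- (M3) subgroups of `Sp_6(q)`, `q` even -/
theorem six_even {F : Type} [Field F] [Fintype F] {V : Type v} [AddCommGroup V] [Module F V] [FiniteDimensional F V]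
    {Q : QuadraticForm F V} (hQ : Nondeg Q) (hV : finrank F V = 6) {f r₆ r₃ : ℕ} (hf : 4 ≤ f)
    (hF : Fintype.card F = 2 ^ f) (h6 : PP 2 (f * 6) r₆) (h3 : PP 2 (f * 3) r₃)
    {H : Subgroup (V ≃ₗ[F] V)} (hH : ∀ h ∈ H, ∀ u v, polar Q (h u) (h v) = polar Q u v)
    (h6H : r₆ ∣ Nat.card H) (h3H : r₃ ∣ Nat.card H)
    (hpH : 6 * f + f.factorization 2 < (Nat.card H).factorization 2) {x : V ≃ₗ[F] V}
    (hx : ∀ u v, polar Q (x u) (x v) = polar Q u v) : x ∈ H :=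
  six_even_of (fun M hM hS => S5806.result M hM hS) hQ hV hf hF h6 h3 hH h6H h3H hpH hx

end Cfsg.Agent.H96.Rg
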